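import Mathlib.Topology.Algebra.GroupCompletion
import Mathlib.Topology.Algebra.IsUniformGroup.Basic
import Mathlib.Topology.Algebra.OpenSubgroup
import Mathlib.Algebra.BigOperators.Intervals

/-!
Completions along open surjective maps of uniform groups with a basis of open subgroups.
-/

set_option autoImplicit false

open Filter Topology UniformSpace

namespace Groth.Agent.LinTopH.Completion

variable {G H : Type*} [UniformSpace G] [AddCommGroup G] [IsUniformAddGroup G]
  [UniformSpace H] [AddCommGroup H] [IsUniformAddGroup H]

/-- The map induced on completions. -/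
noncomputable def mapHom (q : G →+ H) (hq : Continuous q) : Completion G →+ Completion H :=
  (Completion.toCompl.comp q).extension (Completion.continuous_toCompl.comp hq)

theorem mapHom_coe (q : G →+ H) (hq : Continuous q) (g : G) :
    mapHom q hq g = (q g : Completion H) :=
  AddMonoidHom.extension_coe _ _ g

theorem continuous_mapHom (q : G →+ H) (hq : Continuous q) : Continuous (mapHom q hq) :=
  Completion.continuous_extension

theorem mapHom_eq (q : G →+ H) (hq : Continuous q) : ⇑(mapHom q hq) = Completion.map q := rfl

/-- The closure of the image of a subgroup in the completion. -/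
noncomputable def closureImage (U : AddSubgroup G) : AddSubgroup (Completion G) :=
  (U.map Completion.toCompl).topologicalClosure

theorem coe_closureImage (U : AddSubgroup G) :
    (closureImage U : Set (Completion G)) = closure ((fun g : G => (g : Completion G)) '' (U : Set G)) := rfl

theorem coe_mem_closureImage_iff {U : AddSubgroup G} (hU : IsOpen (U : Set G)) {g : G} :
    (g : Completion G) ∈ closureImage U ↔ g ∈ U := by
  have h := (Completion.isDenseInducing_coe (α := G)).isInducing.closure_eq_preimage_closure_image (U : Set G)
  rw [(AddSubgroup.isClosed_of_isOpen U hU).closure_eq] at h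
  exact (Set.ext_iff.1 h g).symm

theorem hasBasis_closureImage {ι : Type*} {p : ι → Prop} {U : ι → AddSubgroup G}
    (hb : (𝓝 (0 : G)).HasBasis p fun i => (U i : Set G)) :
    (𝓝 (0 : Completion G)).HasBasis p fun i => (closureImage (U i) : Set (Completion G)) := by
  have := hb.hasBasis_of_isDenseInducing (Completion.isDenseInducing_coe (α := G))
  simp only [Completion.coe_zero] at this
  exact this

theorem isOpen_closureImage {U : AddSubgroup G} (hU : IsOpen (U : Set G)) :
    IsOpen (closureImage U : Set (Completion G)) := by
  refine AddSubgroup.isOpen_of_mem_nhds _ (g := 0) ?_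
  have h : closure ((fun g : G => (g : Completion G)) '' (U : Set G)) ∈ 𝓝 ((0 : G) : Completion G) :=
    Completion.isDenseInducing_coe.closure_image_mem_nhds (hU.mem_nhds U.zero_mem)
  rwa [Completion.coe_zero] at h

theorem exists_coe_sub_mem {U : AddSubgroup G} (hU : IsOpen (U : Set G)) (x : Completion G) :
    ∃ g : G, x - g ∈ closureImage U := by
  have hW : IsOpen {y : Completion G | x - y ∈ closureImage U} :=
    (isOpen_closureImage hU).preimage (continuous_const.sub continuous_id)
  obtain ⟨y, hy, g, rfl⟩ := (Completion.denseRange_coe (α := G)).inter_open_nonempty _ hW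
    ⟨x, show x - x ∈ closureImage U by rw [sub_self]; exact zero_mem _⟩
  exact ⟨g, hy⟩

/-- The kernel of the induced map is the closure of the kernel. -/
theorem ker_mapHom {ι : Type*} {p : ι → Prop} {U : ι → AddSubgroup G}
    (hb : (𝓝 (0 : G)).HasBasis p fun i => (U i : Set G)) (hUo : ∀ i, p i → IsOpen (U i : Set G))
    (q : G →+ H) (hq : Continuous q) (hqo : IsOpenMap q) :
    ((mapHom q hq).ker : Set (Completion G)) = closureImage q.ker := by
  refine le_antisymm (fun x hx => ?_) ?_
  · rw [coe_closureImage, mem_closure_iff_nhds]
    intro W hW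
    have h0 : (fun y => x - y) ⁻¹' W ∈ 𝓝 (0 : Completion G) :=
      (continuous_const.sub continuous_id).continuousAt.preimage_mem_nhds (by simpa using hW)
    obtain ⟨i, hi, hiW⟩ := (hasBasis_closureImage hb).mem_iff.1 h0
    obtain ⟨g, hg⟩ := exists_coe_sub_mem (hUo i hi) x
    have hopen : IsOpen ((U i).map q : Set H) := hqo _ (hUo i hi)
    have hFg : ((q g : H) : Completion H) ∈ closureImage ((U i).map q) := by
      have hle : closureImage (U i) ≤ (closureImage ((U i).map q)).comap (mapHom q hq) := by
        refine AddSubgroup.topologicalClosure_minimal _ ?_ (IsClosed.preimage (continuous_mapHom q hq)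
          (AddSubgroup.isClosed_topologicalClosure _))
        rintro _ ⟨u, hu, rfl⟩
        show mapHom q hq (u : Completion G) ∈ closureImage _
        rw [mapHom_coe]
        exact (coe_mem_closureImage_iff hopen).2 ⟨u, hu, rfl⟩
      have := hle hg
      rw [AddSubgroup.mem_comap, map_sub, show mapHom q hq x = 0 from hx, zero_sub, mapHom_coe] at this
      exact neg_mem_iff.1 this
    obtain ⟨u, hu, huq⟩ := (coe_mem_closureImage_iff hopen).1 hFg
    refine ⟨((g - u : G) : Completion G), ?_, ⟨g - u, by
      show q (g - u) = 0
      rw [map_sub, huq, sub_self], rfl⟩⟩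
    have hmem : x - ((g - u : G) : Completion G) ∈ closureImage (U i) := by
      rw [Completion.coe_sub, ← sub_add]
      exact add_mem hg ((coe_mem_closureImage_iff (hUo i hi)).2 hu)
    simpa using hiW hmem
  · refine closure_minimal ?_ (isClosed_singleton.preimage (continuous_mapHom q hq))
    rintro _ ⟨n, hn, rfl⟩
    show mapHom q hq (n : Completion G) = 0
    rw [mapHom_coe, show q n = 0 from hn, Completion.coe_zero]

/-- Surjectivity and openness for a countable basis. -/
theorem surjective_isOpenMap_mapHom (V : ℕ → AddSubgroup G) (hVo : ∀ n, IsOpen (V n : Set G))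
    (hb : (𝓝 (0 : G)).HasAntitoneBasis fun n => (V n : Set G))
    (q : G →+ H) (hq : Continuous q) (hqs : Function.Surjective q) (hqo : IsOpenMap q) :
    Function.Surjective (mapHom q hq) ∧ IsOpenMap (mapHom q hq) := by
  let W : ℕ → AddSubgroup H := fun n => (V n).map q
  have hWo : ∀ n, IsOpen (W n : Set H) := fun n => hqo _ (hVo n)
  have hWb : (𝓝 (0 : H)).HasBasis (fun _ => True) fun n => (W n : Set H) := by
    have := hb.toHasBasis.map q
    rwa [hqo.map_nhds_eq hq.continuousAt, map_zero] at this
  have hWb' := hasBasis_closureImage hWb
  have key : ∀ n, (closureImage (W n) : Set (Completion H)) ⊆ mapHom q hq '' (closureImage (V n) : Set (Completion G)) := by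
    intro n y hy
    have hstep : ∀ k, ∀ z ∈ closureImage (W k), ∃ v ∈ V k, z - (q v : Completion H) ∈ closureImage (W (k + 1)) := by
      intro k z hz
      obtain ⟨h, hh⟩ := exists_coe_sub_mem (hWo (k + 1)) z
      have hle : W (k + 1) ≤ W k := AddSubgroup.map_mono (hb.antitone (Nat.le_succ k))
      have hle' : closureImage (W (k + 1)) ≤ closureImage (W k) :=
        closure_mono (Set.image_mono hle)
      have hhk : (h : Completion H) ∈ closureImage (W k) := by
        have := sub_mem hz (hle' hh)
        rwa [sub_sub_cancel] at this
      obtain ⟨v, hv, rfl⟩ := (coe_mem_closureImage_iff (hWo k)).1 hhk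
      exact ⟨v, hv, hh⟩
    choose! v hv hv' using hstep
    let z : ℕ → Completion H := fun k => k.rec y fun k zk => zk - (q (v (n + k) zk) : Completion H)
    have hz : ∀ k, z k ∈ closureImage (W (n + k)) := by
      intro k
      induction k with
      | zero => exact hy
      | succ k ih => exact hv' _ _ ih
    let s : ℕ → G := fun k => ∑ j ∈ Finset.range k, v (n + j) (z j)
    have hs : ∀ k, ((q (s k) : H) : Completion H) = y - z k := by
      intro k
      induction k with
      | zero =>
        show ((q 0 : H) : Completion H) = y - y
        rw [map_zero, Completion.coe_zero, sub_self]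
      | succ k ih =>
        simp only [s, Finset.sum_range_succ, map_add, Completion.coe_add]
        rw [ih]
        show _ = y - (z k - _)
        abel
    have hdiff : ∀ a b, a ≤ b → s b - s a ∈ V (n + a) := by
      intro a b hab
      simp only [s]
      rw [← Finset.sum_Ico_eq_sub _ hab]
      refine sum_mem fun j hj => ?_
      exact hb.antitone (show n + a ≤ n + j from Nat.add_le_add_left (Finset.mem_Ico.1 hj).1 n) (hv _ _ (hz j))
    have hcau : CauchySeq s := by
      rw [hb.toHasBasis.uniformity_of_nhds_zero.cauchySeq_iff']
      intro i _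
      refine ⟨i, fun m hm => ?_⟩
      show s i - s m ∈ (V i : Set G)
      rw [← neg_sub]
      exact neg_mem (hb.antitone (Nat.le_add_left i n) (hdiff i m hm))
    obtain ⟨x, hx⟩ := cauchySeq_tendsto_of_complete ((Completion.uniformContinuous_coe G).comp_cauchySeq hcau)
    refine ⟨x, ?_, ?_⟩
    · refine (AddSubgroup.isClosed_topologicalClosure _).mem_of_tendsto hx (Eventually.of_forall fun k => ?_)
      refine subset_closure ⟨s k, ?_, rfl⟩
      have := hdiff 0 k (Nat.zero_le _)
      simpa [s] using this
    · have h1 : Tendsto (fun k => mapHom q hq ((s k : G) : Completion G)) atTop (𝓝 (mapHom q hq x)) :=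
        ((continuous_mapHom q hq).tendsto x).comp hx
      have h2 : Tendsto z atTop (𝓝 0) := by
        rw [hWb'.tendsto_right_iff]
        intro i _
        refine eventually_atTop.2 ⟨i, fun k hk => ?_⟩
        exact closure_mono (Set.image_mono (AddSubgroup.map_mono (hb.antitone (hk.trans (Nat.le_add_left k n))))) (hz k)
      simp only [mapHom_coe, hs] at h1
      have h3 := h1.add h2
      simp only [sub_add_cancel, add_zero] at h3
      exact (tendsto_nhds_unique h3 tendsto_const_nhds)
  refine ⟨fun y => ?_, ?_⟩
  · obtain ⟨h, hh⟩ := exists_coe_sub_mem (hWo 0) y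
    obtain ⟨g, rfl⟩ := hqs h
    obtain ⟨x, -, hx⟩ := key 0 hh
    exact ⟨x + g, by rw [map_add, hx, mapHom_coe, sub_add_cancel]⟩
  · rw [isOpenMap_iff_nhds_le]
    intro x
    refine Filter.le_map fun s hs => ?_
    have h0 : (fun y => x + y) ⁻¹' s ∈ 𝓝 (0 : Completion G) :=
      (continuous_const.add continuous_id).continuousAt.preimage_mem_nhds (by simpa using hs)
    obtain ⟨i, -, hi⟩ := (hasBasis_closureImage hb.toHasBasis).mem_iff.1 h0
    have hopen : IsOpen {w : Completion H | w - mapHom q hq x ∈ closureImage (W i)} :=
      (isOpen_closureImage (hWo i)).preimage (continuous_id.sub continuous_const)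
    refine mem_of_superset (hopen.mem_nhds (show mapHom q hq x - mapHom q hq x ∈ closureImage (W i) by rw [sub_self]; exact zero_mem _)) ?_
    intro w hw
    obtain ⟨e, he, he'⟩ := key i hw
    exact ⟨x + e, hi he, by rw [map_add, he', add_sub_cancel]⟩

end Groth.Agent.LinTopH.Completion
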